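import Groth.Agent.ThickFlatLib.Ring
import Groth.Agent.S0422
import Groth.Agent.SweepSix.Thick
import Mathlib

/-! Morphisms of flat schemes over a thickening. -/

set_option autoImplicit false
universe u

open CategoryTheory CategoryTheory.Limits AlgebraicGeometry TensorProduct

namespace ThickFlatLib

variable {X X' Y Y' S S' : Scheme.{u}} {iX : X ⟶ X'} {iY : Y ⟶ Y'} {iS : S ⟶ S'} {f : X ⟶ Y} {f' : X' ⟶ Y'}
  {g : Y ⟶ S} {g' : Y' ⟶ S'}

theorem isPullback_top (hcX : IsPullback iX (f ≫ g) (f' ≫ g') iS) (hcY : IsPullback iY g g' iS)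
    (w : iX ≫ f' = f ≫ iY) : IsPullback iX f f' iY :=
  IsPullback.of_bot hcX w hcY

theorem isThickening_base (hS : MoreMor.IsThickening iS) (hcY : IsPullback iY g g' iS) :
    MoreMor.IsThickening iY :=
  ⟨MorphismProperty.of_isPullback hcY.flip hS.1, MorphismProperty.of_isPullback hcY.flip hS.2⟩

/-- A chart of the whole square over affine opens. -/
structure Chart (iS : S ⟶ S') (f' : X' ⟶ Y') (g' : Y' ⟶ S') (V : Scheme.{u}) (U : Y'.Opens) (W : S'.Opens) where
  hW : IsAffineOpen W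
  hU : IsAffineOpen U
  hV : IsAffine V
  hUW : U ≤ g' ⁻¹ᵁ W
  j : V ⟶ (f' ⁻¹ᵁ U : X'.Opens)
  hj : IsOpenImmersion j

variable (iS) in
/-- The pieces used for the reduction to algebra. -/
theorem exists_piece [IsClosedImmersion iS] (P : MorphismProperty Scheme.{u}) [IsZariskiLocalAtSource P]
    [P.IsStableUnderBaseChange] (hc : IsPullback iX f f' iY) (hcY : IsPullback iY g g' iS) (hP : P f)
    {V : Scheme.{u}} {U : Y'.Opens} {W : S'.Opens} (D : Chart iS f' g' V U W) :
    ∃ (B A : Scheme.{u}) (_ : IsAffine B) (_ : IsAffine A) (k : B ⟶ U.toScheme) (h : A ⟶ B) (c : A ⟶ V),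
      P h ∧ Function.Surjective k.appTop.hom ∧
      RingHom.ker k.appTop.hom = (RingHom.ker (iS ∣_ W).appTop.hom).map (g'.resLE W U D.hUW).appTop.hom ∧
      IsPushout k.appTop (D.j ≫ f' ∣_ U).appTop h.appTop c.appTop := by
  have := D.hV
  have : IsAffine W := D.hW
  have : IsAffine U := D.hU
  have := D.hj
  have : IsClosedImmersion (iS ∣_ W) := IsZariskiLocalAtTarget.restrict ‹IsClosedImmersion iS› _
  have : IsAffine (iS ⁻¹ᵁ W : S.Opens) := isAffine_of_isAffineHom (iS ∣_ W)
  set q := g'.resLE W U D.hUW with hq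
  set j := iS ∣_ W with hj
  let B := pullback j q
  let k : B ⟶ U.toScheme := pullback.snd j q
  have : IsAffine B := isAffine_of_isAffineHom k
  let r := D.j ≫ f' ∣_ U
  let A := pullback k r
  have : IsAffine A := isAffine_of_isAffineHom (pullback.snd k r)
  have hj_surj : Function.Surjective j.appTop.hom := j.app_surjective ⊤ (isAffineOpen_top _)
  have sq₀ := isPushout_appTop_of_isPullback (IsPullback.of_hasPullback j q)
  refine ⟨B, A, ‹_›, ‹_›, k, pullback.fst k r, pullback.snd k r, ?_, SweepSix.surjective_inr sq₀ hj_surj,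
    ker_eq_map_ker sq₀ hj_surj, isPushout_appTop_of_isPullback (IsPullback.of_hasPullback k r)⟩
  -- `pullback.fst k r` is a base change of `f`, up to an open immersion
  let e : B ⟶ Y := hcY.lift (k ≫ U.ι) (pullback.fst j q ≫ (iS ⁻¹ᵁ W).ι) (by
    change (k ≫ U.ι) ≫ g' = _
    rw [Category.assoc, ← Scheme.Hom.resLE_comp_ι g' D.hUW, ← hq, ← Category.assoc,
      show k ≫ q = pullback.fst j q ≫ j from pullback.condition.symm, Category.assoc, show j ≫ W.ι = (iS ⁻¹ᵁ W).ι ≫ iS from morphismRestrict_ι iS W,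
      ← Category.assoc])
  have he : e ≫ iY = k ≫ U.ι := hcY.lift_fst _ _ _
  set r₀ := f' ∣_ U with hr₀
  have h1 := (IsPullback.of_hasPullback k r₀).flip.paste_horiz (isPullback_morphismRestrict f' U).flip
  let e' := hc.lift (pullback.snd k r₀ ≫ (f' ⁻¹ᵁ U).ι) (pullback.fst k r₀ ≫ e)
    (by rw [h1.w, Category.assoc, he])
  have h2 : IsPullback e' (pullback.fst k r₀) f e := by
    refine IsPullback.of_right ?_ (hc.lift_snd _ _ _) hc
    rw [hc.lift_fst, he]
    exact h1
  have hr : P (pullback.fst k r₀) := MorphismProperty.of_isPullback h2 hP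
  let m : pullback k r ⟶ pullback k r₀ := pullback.map _ _ _ _ (𝟙 _) D.j (𝟙 _) (by simp) (Category.comp_id _)
  have : IsOpenImmersion m :=
    MorphismProperty.pullbackMap (P := @IsOpenImmersion) inferInstance inferInstance
      (Category.id_comp _).symm rfl
  have : pullback.fst k r = m ≫ pullback.fst k r₀ :=
    ((pullback.lift_fst _ _ _).trans (Category.comp_id _)).symm
  rw [this]
  exact IsZariskiLocalAtSource.comp hr m

/-- Reduction of a local property of `f'` to the charts. -/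
theorem of_forall_chart (P : MorphismProperty Scheme.{u}) [IsZariskiLocalAtTarget P] [IsZariskiLocalAtSource P]
    (key : ∀ {V : Scheme.{u}} {U : Y'.Opens} {W : S'.Opens} (D : Chart iS f' g' V U W), P (D.j ≫ f' ∣_ U)) :
    P f' := by
  let I := {p : S'.affineOpens × Y'.affineOpens // p.2.1 ≤ g' ⁻¹ᵁ p.1.1}
  have hI : (⨆ p : I, (p.1.2.1 : Y'.Opens)) = ⊤ := by
    refine eq_top_iff.2 fun y _ => ?_
    obtain ⟨W, hW, hyW, -⟩ := exists_isAffineOpen_mem_and_subset (X := S') (x := g' y) (U := ⊤) trivial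
    obtain ⟨U, hU, hyU, hUW⟩ := exists_isAffineOpen_mem_and_subset (X := Y') (x := y) (U := g' ⁻¹ᵁ W) hyW
    exact TopologicalSpace.Opens.mem_iSup.2 ⟨⟨(⟨W, hW⟩, ⟨U, hU⟩), hUW⟩, hyU⟩
  refine (IsZariskiLocalAtTarget.iff_of_iSup_eq_top (P := P) (fun p : I => p.1.2.1) hI).2 fun p => ?_
  refine (IsZariskiLocalAtSource.iff_of_openCover (P := P) ((f' ⁻¹ᵁ p.1.2.1).toScheme.affineCover)).2 fun i => ?_
  exact key ⟨p.1.1.2, p.1.2.2, inferInstance, p.2, _, inferInstance⟩

theorem prop_resLE {P : MorphismProperty Scheme.{u}} [IsZariskiLocalAtTarget P] [IsZariskiLocalAtSource P]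
    {Z Z' : Scheme.{u}} {v : Z ⟶ Z'} (hv : P v) (U : Z'.Opens) (V : Z.Opens) (e : V ≤ v ⁻¹ᵁ U) :
    P (v.resLE U V e) :=
  IsZariskiLocalAtSource.comp (IsZariskiLocalAtTarget.restrict hv U) (Z.homOfLE e)

theorem chart_comp_prop {P : MorphismProperty Scheme.{u}} [IsZariskiLocalAtTarget P] [IsZariskiLocalAtSource P]
    (hv : P (f' ≫ g')) {V : Scheme.{u}} {U : Y'.Opens} {W : S'.Opens} (D : Chart iS f' g' V U W) :
    P ((D.j ≫ f' ∣_ U) ≫ g'.resLE W U D.hUW) := by
  have := D.hj
  have e : (f' ∣_ U) ≫ g'.resLE W U D.hUW = (f' ≫ g').resLE W (f' ⁻¹ᵁ U) (fun x hx => D.hUW hx) := by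
    simp [← cancel_mono W.ι]
  rw [Category.assoc, e]
  exact IsZariskiLocalAtSource.comp (prop_resLE hv _ _ _) D.j

theorem flat_of_finiteOrder (hS : MoreMor.IsFiniteOrderThickening iS)
    (hcX : IsPullback iX (f ≫ g) (f' ≫ g') iS) (hcY : IsPullback iY g g' iS) (w : iX ≫ f' = f ≫ iY)
    [Flat (f' ≫ g')] [Flat f] : Flat f' := by
  obtain ⟨⟨_, _⟩, hn⟩ := hS
  refine of_forall_chart (iS := iS) (g' := g') @Flat fun {V U W} D => ?_
  obtain ⟨B, A, _, _, k, h, c, hh, hks, hker, sq⟩ :=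
    exists_piece iS @Flat (isPullback_top hcX hcY w) hcY ‹Flat f› D
  have := D.hV
  have : IsAffine W := D.hW
  have : IsAffine U := D.hU
  have hJ := SweepSix.ker_isNilpotent iS hn ⟨W, D.hW⟩
  have hflat := (HasRingHomProperty.iff_of_isAffine (P := @Flat)).1
    (chart_comp_prop (P := @Flat) (iS := iS) inferInstance D)
  rw [Scheme.Hom.comp_appTop] at hflat
  refine (HasRingHomProperty.iff_of_isAffine (P := @Flat)).2 ?_
  have hmod := flat_mod_ker sq hks ((HasRingHomProperty.iff_of_isAffine (P := @Flat)).1 hh)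
  revert hflat hker hmod
  generalize (g'.resLE W U D.hUW).appTop = q
  generalize (D.j ≫ f' ∣_ U).appTop = r
  intro hker hflat hmod
  algebraize [q.hom, r.hom, (q ≫ r).hom]
  have : IsScalarTower Γ(W.toScheme, ⊤) Γ(U.toScheme, ⊤) Γ(V, ⊤) := .of_algebraMap_eq' rfl
  have : Module.Flat Γ(W.toScheme, ⊤) Γ(V, ⊤) := hflat
  rw [hker] at hmod
  exact flat_of_nilpotent _ hJ hmod

theorem flat_of_thickening (hS : MoreMor.IsThickening iS)
    (hcX : IsPullback iX (f ≫ g) (f' ≫ g') iS) (hcY : IsPullback iY g g' iS) (w : iX ≫ f' = f ≫ iY)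
    [Flat (f' ≫ g')] [LocallyOfFinitePresentation (f' ≫ g')] [LocallyOfFiniteType g'] [Flat f] : Flat f' := by
  obtain ⟨_, _⟩ := hS
  refine of_forall_chart (iS := iS) (g' := g') @Flat fun {V U W} D => ?_
  obtain ⟨B, A, _, _, k, h, c, hh, hks, hker, sq⟩ :=
    exists_piece iS @Flat (isPullback_top hcX hcY w) hcY ‹Flat f› D
  have := D.hV
  have : IsAffine W := D.hW
  have : IsAffine U := D.hU
  have hJ := SweepSix.ker_le_nilradical iS ⟨W, D.hW⟩
  have hflat := (HasRingHomProperty.iff_of_isAffine (P := @Flat)).1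
    (chart_comp_prop (P := @Flat) (iS := iS) inferInstance D)
  have hfp := (HasRingHomProperty.iff_of_isAffine (P := @LocallyOfFinitePresentation)).1
    (chart_comp_prop (P := @LocallyOfFinitePresentation) (iS := iS) inferInstance D)
  have hft := (HasRingHomProperty.iff_of_isAffine (P := @LocallyOfFiniteType)).1
    (prop_resLE (P := @LocallyOfFiniteType) ‹LocallyOfFiniteType g'› W U D.hUW)
  rw [Scheme.Hom.comp_appTop] at hflat hfp
  refine (HasRingHomProperty.iff_of_isAffine (P := @Flat)).2 ?_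
  have hmod := flat_mod_ker sq hks ((HasRingHomProperty.iff_of_isAffine (P := @Flat)).1 hh)
  revert hflat hfp hft hker hmod
  generalize (g'.resLE W U D.hUW).appTop = q
  generalize (D.j ≫ f' ∣_ U).appTop = r
  intro hker hflat hfp hft hmod
  algebraize [q.hom, r.hom, (q ≫ r).hom]
  have : IsScalarTower Γ(W.toScheme, ⊤) Γ(U.toScheme, ⊤) Γ(V, ⊤) := .of_algebraMap_eq' rfl
  have : Module.Flat Γ(W.toScheme, ⊤) Γ(V, ⊤) := hflat
  have : Algebra.FinitePresentation Γ(W.toScheme, ⊤) Γ(V, ⊤) := hfp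
  have : Algebra.FiniteType Γ(W.toScheme, ⊤) Γ(U.toScheme, ⊤) := hft
  rw [hker] at hmod
  exact Groth.Agent.S0422.result (R := Γ(W.toScheme, ⊤)) (S := Γ(U.toScheme, ⊤)) (S' := Γ(V, ⊤)) (M := Γ(V, ⊤))
    _ (fun a ha => hJ ha) hmod

theorem lfp_of_finiteOrder (hS : MoreMor.IsFiniteOrderThickening iS)
    (hcX : IsPullback iX (f ≫ g) (f' ≫ g') iS) (hcY : IsPullback iY g g' iS) (w : iX ≫ f' = f ≫ iY)
    [Flat (f' ≫ g')] [LocallyOfFinitePresentation f] : LocallyOfFinitePresentation f' := by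
  obtain ⟨⟨_, _⟩, hn⟩ := hS
  refine of_forall_chart (iS := iS) (g' := g') @LocallyOfFinitePresentation fun {V U W} D => ?_
  obtain ⟨B, A, _, _, k, h, c, hh, hks, hker, sq⟩ :=
    exists_piece iS @LocallyOfFinitePresentation (isPullback_top hcX hcY w) hcY ‹LocallyOfFinitePresentation f› D
  have := D.hV
  have : IsAffine W := D.hW
  have : IsAffine U := D.hU
  have hflat := (HasRingHomProperty.iff_of_isAffine (P := @Flat)).1
    (chart_comp_prop (P := @Flat) (iS := iS) inferInstance D)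
  rw [Scheme.Hom.comp_appTop] at hflat
  refine (HasRingHomProperty.iff_of_isAffine (P := @LocallyOfFinitePresentation)).2 ?_
  exact finitePresentation_of_nilpotent _ _ (SweepSix.ker_isNilpotent iS hn ⟨W, D.hW⟩) sq hks hker hflat
    ((HasRingHomProperty.iff_of_isAffine (P := @LocallyOfFinitePresentation)).1 hh)

theorem smooth_of_fibres (hc : IsPullback iX f f' iY) [IsClosedImmersion iY] [Surjective iY]
    [Flat f'] [LocallyOfFinitePresentation f'] [Smooth f] : Smooth f' := by
  refine Smooth.of_smooth_fiberToSpecResidueField f' fun y' => ?_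
  obtain ⟨y, rfl⟩ := iY.surjective y'
  have hsurj : Function.Surjective (iY.residueFieldMap y) := fun a => by
    obtain ⟨b, rfl⟩ := Y.residue_surjective y a
    obtain ⟨c, rfl⟩ := iY.stalkMap_surjective y b
    exact ⟨Y'.residue (iY y) c, congr($(Scheme.residue_residueFieldMap iY y) c)⟩
  have : IsIso (iY.residueFieldMap y) :=
    (ConcreteCategory.isIso_iff_bijective _).2 ⟨(iY.residueFieldMap y).hom.injective, hsurj⟩
  let t : Spec (Y'.residueField (iY y)) ⟶ Y := Spec.map (inv (iY.residueFieldMap y)) ≫ Y.fromSpecResidueField y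
  have ht : t ≫ iY = Y'.fromSpecResidueField (iY y) := by
    rw [Category.assoc, ← Scheme.Hom.SpecMap_residueFieldMap_fromSpecResidueField, ← Category.assoc,
      ← Spec.map_comp, IsIso.hom_inv_id, Spec.map_id, Category.id_comp]
  let l := hc.lift (f'.fiberι (iY y)) (f'.fiberToSpecResidueField (iY y) ≫ t)
    (by rw [Category.assoc, ht]; exact f'.fiber_fac (iY y))
  have hsq : IsPullback l (f'.fiberToSpecResidueField (iY y)) f t := by
    refine IsPullback.of_right ?_ (hc.lift_snd _ _ _) hc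
    rw [hc.lift_fst, ht]
    exact IsPullback.of_hasPullback _ _
  exact MorphismProperty.of_isPullback hsq ‹Smooth f›

end ThickFlatLib
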