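import Groth.Agent.ThickFlatLib.Scheme
import Groth.Agent.S12442

/-! Isomorphisms, open immersions, smooth and étale morphisms along thickenings. -/

set_option autoImplicit false
universe u

open CategoryTheory CategoryTheory.Limits AlgebraicGeometry

namespace ThickFlatLib

variable {X X' Y Y' S S' : Scheme.{u}} {iX : X ⟶ X'} {iY : Y ⟶ Y'} {iS : S ⟶ S'} {f : X ⟶ Y} {f' : X' ⟶ Y'}
  {g : Y ⟶ S} {g' : Y' ⟶ S'}

theorem lfp_of_thickening [LocallyOfFinitePresentation (f' ≫ g')] [LocallyOfFiniteType g'] :
    LocallyOfFinitePresentation f' :=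
  Groth.Agent.S12442.lfp_of_comp_lft f' g'

theorem isOpenImmersion_of_finiteOrder (hS : MoreMor.IsFiniteOrderThickening iS)
    (hcX : IsPullback iX (f ≫ g) (f' ≫ g') iS) (hcY : IsPullback iY g g' iS) (w : iX ≫ f' = f ≫ iY)
    [Flat (f' ≫ g')] [IsOpenImmersion f] : IsOpenImmersion f' := by
  have hY : MoreMor.IsThickening iY := isThickening_base hS.1 hcY
  have hc := isPullback_top hcX hcY w
  have := flat_of_finiteOrder hS hcX hcY w
  have := lfp_of_finiteOrder hS hcX hcY w
  have : Mono f' := SweepSix.mono_of_thickening hY hc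
  exact IsOpenImmersion.of_flat_of_mono f'

theorem isOpenImmersion_of_thickening (hS : MoreMor.IsThickening iS)
    (hcX : IsPullback iX (f ≫ g) (f' ≫ g') iS) (hcY : IsPullback iY g g' iS) (w : iX ≫ f' = f ≫ iY)
    [Flat (f' ≫ g')] [LocallyOfFinitePresentation (f' ≫ g')] [LocallyOfFiniteType g'] [IsOpenImmersion f] :
    IsOpenImmersion f' := by
  have hY : MoreMor.IsThickening iY := isThickening_base hS hcY
  have hc := isPullback_top hcX hcY w
  have := flat_of_thickening hS hcX hcY w
  have : LocallyOfFinitePresentation f' := lfp_of_thickening (g' := g')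
  have : Mono f' := SweepSix.mono_of_thickening hY hc
  exact IsOpenImmersion.of_flat_of_mono f'

theorem isIso_of_openImmersion (hY : Surjective iY) (w : iX ≫ f' = f ≫ iY) [IsOpenImmersion f'] [IsIso f] :
    IsIso f' := by
  have := hY
  have : Surjective (f ≫ iY) := inferInstance
  rw [← w] at this
  have : Surjective f' := Surjective.of_comp iX f'
  exact (isIso_iff_isOpenImmersion_and_epi_base _).2 ⟨inferInstance, (TopCat.epi_iff_surjective _).2 f'.surjective⟩

theorem smooth_of_finiteOrder (hS : MoreMor.IsFiniteOrderThickening iS)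
    (hcX : IsPullback iX (f ≫ g) (f' ≫ g') iS) (hcY : IsPullback iY g g' iS) (w : iX ≫ f' = f ≫ iY)
    [Flat (f' ≫ g')] [Smooth f] : Smooth f' := by
  obtain ⟨_, _⟩ := isThickening_base hS.1 hcY
  have := flat_of_finiteOrder hS hcX hcY w
  have := lfp_of_finiteOrder hS hcX hcY w
  exact smooth_of_fibres (isPullback_top hcX hcY w)

theorem smooth_of_thickening (hS : MoreMor.IsThickening iS)
    (hcX : IsPullback iX (f ≫ g) (f' ≫ g') iS) (hcY : IsPullback iY g g' iS) (w : iX ≫ f' = f ≫ iY)
    [Flat (f' ≫ g')] [LocallyOfFinitePresentation (f' ≫ g')] [LocallyOfFiniteType g'] [Smooth f] : Smooth f' := by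
  obtain ⟨_, _⟩ := isThickening_base hS hcY
  have := flat_of_thickening hS hcX hcY w
  have : LocallyOfFinitePresentation f' := lfp_of_thickening (g' := g')
  exact smooth_of_fibres (isPullback_top hcX hcY w)

theorem etale_of_smooth (hY : MoreMor.IsThickening iY) (hc : IsPullback iX f f' iY) [Etale f] [Smooth f'] :
    Etale f' := by
  have : FormallyUnramified f' := SweepSix.formallyUnramified_of_thickening hY hc inferInstance
  exact Etale.of_formallyUnramified_of_flat f'

end ThickFlatLib
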