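import Groth.Agent.FlatCrit.Quotient
import Groth.Agent.SweepSix.Thick
import Mathlib

/-! Ring-theoretic lifting of flatness and finite presentation along nilpotent thickenings. -/

set_option autoImplicit false
universe u

open TensorProduct CategoryTheory

namespace ThickFlatLib

section Criterion

variable {R S M : Type u} [CommRing R] [CommRing S] [Algebra R S] [AddCommGroup M] [Module R M] [Module S M]
  [IsScalarTower R S M]

/-- Flatness modulo a nilpotent ideal of the base. -/
theorem flat_of_nilpotent (J : Ideal R) (hJ : IsNilpotent J) [Module.Flat R M]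
    (h : Module.Flat (S ⧸ J.map (algebraMap R S)) ((S ⧸ J.map (algebraMap R S)) ⊗[S] M)) :
    Module.Flat S M := by
  let K : Ideal S := J.map (algebraMap R S)
  let σ₁ : J →ₗ[R] K :=
    { toFun := fun j => ⟨algebraMap R S j, Ideal.mem_map_of_mem _ j.2⟩
      map_add' := fun a b => Subtype.ext (map_add _ _ _)
      map_smul' := fun r a => Subtype.ext (by simp [Algebra.smul_def]) }
  let σ : M ⊗[R] J →ₗ[R] M ⊗[S] K :=
    TensorProduct.lift
      { toFun := fun m =>
          { toFun := fun j => m ⊗ₜ σ₁ j
            map_add' := fun a b => by rw [map_add, tmul_add]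
            map_smul' := fun r a => by rw [map_smul, RingHom.id_apply, tmul_smul] }
        map_add' := fun a b => LinearMap.ext fun j => add_tmul a b _
        map_smul' := fun r a => LinearMap.ext fun j => by simp [smul_tmul'] }
  have hσ : Function.Surjective σ := by
    intro z
    induction z with
    | zero => exact ⟨0, map_zero _⟩
    | add a b ha hb =>
      obtain ⟨x, rfl⟩ := ha
      obtain ⟨y, rfl⟩ := hb
      exact ⟨x + y, map_add _ _ _⟩
    | tmul m k =>
      obtain ⟨k, hk⟩ := k
      induction hk using Submodule.span_induction generalizing m with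
      | mem k hk =>
        obtain ⟨j, hj, rfl⟩ := hk
        exact ⟨m ⊗ₜ ⟨j, hj⟩, rfl⟩
      | zero => exact ⟨0, by rw [map_zero]; exact (tmul_zero K m).symm⟩
      | add a b ha hb hxa hxb =>
        obtain ⟨x, hx⟩ := hxa m
        obtain ⟨y, hy⟩ := hxb m
        exact ⟨x + y, by rw [map_add, hx, hy, ← tmul_add]; rfl⟩
      | smul s a ha hxa =>
        obtain ⟨x, hx⟩ := hxa (s • m)
        exact ⟨x, by rw [hx, smul_tmul]; rfl⟩
  have h1 : Function.Injective (LinearMap.lTensor M K.subtype) := by
    rw [injective_iff_map_eq_zero]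
    intro z hz
    obtain ⟨w, rfl⟩ := hσ z
    have hcomm : ∀ w, TensorProduct.rid R M (LinearMap.lTensor M J.subtype w) =
        TensorProduct.rid S M (LinearMap.lTensor M K.subtype (σ w)) := by
      intro w
      induction w with
      | zero => simp
      | tmul m j => simp [σ, σ₁, algebraMap_smul]
      | add a b ha hb => simp only [map_add, ha, hb]
    have := hcomm w
    rw [hz, map_zero, map_eq_zero_iff _ (TensorProduct.rid R M).injective,
      map_eq_zero_iff _ (Module.Flat.lTensor_preserves_injective_linearMap J.subtype Subtype.val_injective)] at this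
    rw [this, map_zero]
  obtain ⟨n, hn⟩ := hJ
  refine Module.Flat.iff_lTensor_injective.mpr fun L _ => ?_
  refine FlatCrit.injective_of_pow_smul_le h1 h n L ?_
  rw [show K ^ n = ⊥ by rw [← Ideal.map_pow, hn, Ideal.zero_eq_bot, Ideal.map_bot], Submodule.bot_smul]
  exact bot_le

end Criterion

section Pushout

variable {S S' Sb A : CommRingCat.{u}} {k : S ⟶ Sb} {r : S ⟶ S'} {h : Sb ⟶ A} {c : S' ⟶ A}

theorem ker_eq_map_ker (sq : IsPushout k r h c) (hk : Function.Surjective k.hom) :
    RingHom.ker c.hom = (RingHom.ker k.hom).map r.hom := by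
  refine le_antisymm (SweepSix.ker_le_map_ker sq hk) ?_
  rw [Ideal.map_le_iff_le_comap]
  intro x hx
  rw [Ideal.mem_comap, RingHom.mem_ker]
  have := congrArg (fun m => m.hom x) sq.w
  simp only [CommRingCat.hom_comp, RingHom.comp_apply] at this
  rw [← this, show k.hom x = 0 from hx, map_zero]

/-- The base change of `r` to `S ⧸ ker k` is `h`. -/
theorem flat_mod_ker (sq : IsPushout k r h c) (hk : Function.Surjective k.hom) (hh : h.hom.Flat) :
    letI := r.hom.toAlgebra
    Module.Flat (S ⧸ RingHom.ker k.hom) ((S ⧸ RingHom.ker k.hom) ⊗[S] S') := by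
  letI := r.hom.toAlgebra
  rw [FlatCrit.flat_tensor_quotient_iff]
  have hc := SweepSix.surjective_inr sq hk
  let eS := RingHom.quotientKerEquivOfSurjective hk
  let eA : S' ⧸ (RingHom.ker k.hom).map (algebraMap S S') ≃+* A :=
    (Ideal.quotEquivOfEq (ker_eq_map_ker sq hk).symm).trans (RingHom.quotientKerEquivOfSurjective hc)
  have e : Ideal.quotientMap ((RingHom.ker k.hom).map (algebraMap S S')) (algebraMap S S') Ideal.le_comap_map =
      eA.symm.toRingHom.comp (h.hom.comp eS.toRingHom) := by
    refine Ideal.Quotient.ringHom_ext (RingHom.ext fun x => eA.injective ?_)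
    simp only [RingHom.comp_apply, RingEquiv.toRingHom_eq_coe, RingEquiv.coe_toRingHom, RingEquiv.apply_symm_apply]
    have := congrArg (fun m => m.hom x) sq.w
    simp only [CommRingCat.hom_comp, RingHom.comp_apply] at this
    exact this.symm
  rw [e]
  exact RingHom.Flat.comp (RingHom.Flat.comp (RingHom.Flat.of_bijective eS.bijective) hh)
    (RingHom.Flat.of_bijective eA.symm.bijective)

/-- Finite presentation lifts along a nilpotent thickening of the base when the source is flat. -/
theorem finitePresentation_of_nilpotent {R : CommRingCat.{u}} (q : R ⟶ S) (J : Ideal R) (hJ : IsNilpotent J)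
    (sq : IsPushout k r h c) (hk : Function.Surjective k.hom) (hker : RingHom.ker k.hom = J.map q.hom)
    (hflat : (q ≫ r).hom.Flat) (hfp : h.hom.FinitePresentation) : r.hom.FinitePresentation := by
  have hknil : IsNilpotent (RingHom.ker k.hom) := by
    obtain ⟨n, hn⟩ := hJ
    exact ⟨n, by rw [hker, ← Ideal.map_pow, hn, Ideal.zero_eq_bot, Ideal.map_bot]; rfl⟩
  have hft : r.hom.FiniteType := SweepSix.finiteType_of_nilpotent sq hk hknil (RingHom.FiniteType.of_finitePresentation hfp)
  have hkerc := ker_eq_map_ker sq hk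
  have hc := SweepSix.surjective_inr sq hk
  algebraize [q.hom, r.hom, (q ≫ r).hom, k.hom, h.hom, c.hom]
  have : IsScalarTower R S S' := .of_algebraMap_eq' rfl
  obtain ⟨ι, hι, π, hπ⟩ := Algebra.FiniteType.iff_quotient_mvPolynomial''.mp (show Algebra.FiniteType S S' from hft) |>
    fun ⟨n, π, hπ⟩ => (⟨ULift (Fin n), (inferInstance : Fintype (ULift (Fin n))),
      π.comp (MvPolynomial.rename ULift.down), hπ.comp (MvPolynomial.rename_surjective _ ULift.down_surjective)⟩ :
      ∃ (ι : Type u) (_ : Fintype ι) (π : MvPolynomial ι S →ₐ[S] S'), Function.Surjective π)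
  let ρ : MvPolynomial ι S →+* MvPolynomial ι Sb := MvPolynomial.map k.hom
  have hρ : Function.Surjective ρ := MvPolynomial.map_surjective _ hk
  let β : MvPolynomial ι Sb →ₐ[Sb] A := MvPolynomial.aeval fun i => c.hom (π (MvPolynomial.X i))
  have hsqx : ∀ x, c.hom (r.hom x) = h.hom (k.hom x) := fun x => (congrArg (fun m => m.hom x) sq.w).symm
  have hβ : ∀ p, β (ρ p) = c.hom (π p) := fun p => by
    have e : β.toRingHom.comp ρ = c.hom.comp π.toRingHom := by
      refine MvPolynomial.ringHom_ext (fun s => ?_) (fun i => ?_)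
      · simp [β, ρ, RingHom.algebraMap_toAlgebra, hsqx]
      · simp [β, ρ]
    exact congrArg (fun g => g p) e
  have hβs : Function.Surjective β := by
    intro a
    obtain ⟨y, rfl⟩ := hc a
    obtain ⟨p, rfl⟩ := hπ y
    exact ⟨ρ p, hβ p⟩
  obtain ⟨T, hT⟩ := Algebra.FinitePresentation.ker_fG_of_surjective β hβs
  choose lift hlift using fun t : MvPolynomial ι Sb => hρ t
  let K : Ideal (MvPolynomial ι S) := RingHom.ker π.toRingHom
  let JP : Ideal (MvPolynomial ι S) := J.map (algebraMap R (MvPolynomial ι S))
  have hρker : RingHom.ker ρ = JP := by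
    rw [MvPolynomial.ker_map, hker, Ideal.map_map]
    rfl
  have hJS' : RingHom.ker c.hom = JP.map π.toRingHom := by
    rw [hkerc, hker, Ideal.map_map, Ideal.map_map]
    congr 1
    exact RingHom.ext fun x => (π.commutes _).symm
  -- lifts of the generators into `K`
  have hex : ∀ t : T, ∃ k₀ ∈ K, ρ k₀ = t.1 := fun t => by
    have h0 : c.hom (π (lift t.1)) = 0 := by
      rw [← hβ, hlift]
      exact RingHom.mem_ker.1 (hT.le (Ideal.subset_span t.2))
    have h1 : π (lift t.1) ∈ JP.map π.toRingHom := hJS' ▸ h0
    obtain ⟨j, hj, hj'⟩ := (Ideal.mem_map_iff_of_surjective π.toRingHom hπ).1 h1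
    refine ⟨lift t.1 - j, ?_, ?_⟩
    · rw [RingHom.mem_ker, map_sub, sub_eq_zero]; exact hj'.symm
    · rw [map_sub, hlift, RingHom.mem_ker.1 (hρker.ge hj), sub_zero]
  choose gen hgen1 hgen2 using hex
  let K₀ : Ideal (MvPolynomial ι S) := Ideal.span (Set.range gen)
  have hK₀ : K₀ ≤ K := Ideal.span_le.2 (by rintro _ ⟨t, rfl⟩; exact hgen1 t)
  have hmap : RingHom.ker β.toRingHom ≤ K₀.map ρ := by
    rw [← hT, Ideal.span, Submodule.span_le]
    intro t ht
    rw [SetLike.mem_coe, ← show ρ (gen ⟨t, ht⟩) = t from hgen2 ⟨t, ht⟩]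
    exact Ideal.mem_map_of_mem ρ (Ideal.subset_span ⟨⟨t, ht⟩, rfl⟩)
  have hsup : ∀ x ∈ K, ∃ y ∈ K₀, x - y ∈ JP := fun x hx => by
    have h0 : ρ x ∈ K₀.map ρ := hmap (by
      rw [RingHom.mem_ker]
      exact (hβ x).trans (by rw [show π x = 0 from hx, map_zero]))
    obtain ⟨y, hy, hy'⟩ := (Ideal.mem_map_iff_of_surjective ρ hρ).1 h0
    exact ⟨y, hy, hρker.le (by rw [RingHom.mem_ker, map_sub, hy', sub_self])⟩
  -- purity
  have : Module.Flat R S' := hflat
  let πR : MvPolynomial ι S →ₗ[R] S' := (π.restrictScalars R).toLinearMap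
  have hpure : ∀ x ∈ K, x ∈ JP → x ∈ J • (K.restrictScalars R) := by
    intro x hxK hxJ
    have hxJ' : x ∈ J • (⊤ : Submodule R (MvPolynomial ι S)) := by rw [Ideal.smul_top_eq_map]; exact hxJ
    obtain ⟨t, rfl⟩ : ∃ t : J ⊗[R] MvPolynomial ι S, TensorProduct.lid R _ (J.subtype.rTensor _ t) = x := by
      refine Submodule.smul_induction_on hxJ' (fun a ha m _ => ⟨⟨a, ha⟩ ⊗ₜ m, by simp⟩) ?_
      rintro a b ⟨u, rfl⟩ ⟨v, rfl⟩
      exact ⟨u + v, by simp [map_add]⟩
    have hnat : ∀ t : J ⊗[R] MvPolynomial ι S, TensorProduct.lid R S' (J.subtype.rTensor S' (πR.lTensor J t)) =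
        πR (TensorProduct.lid R _ (J.subtype.rTensor _ t)) := fun t => by
      induction t with
      | zero => simp
      | tmul a m => simp
      | add a b ha hb => simp only [map_add, ha, hb]
    have h0 : πR.lTensor J t = 0 := by
      apply Module.Flat.rTensor_preserves_injective_linearMap (M := S') J.subtype Subtype.val_injective
      apply (TensorProduct.lid R S').injective
      rw [hnat, map_zero, map_zero]
      exact hxK
    have hexact : Function.Exact (LinearMap.ker πR).subtype πR := LinearMap.exact_subtype_ker_map πR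
    obtain ⟨u, rfl⟩ := (lTensor_exact (J : Type u) hexact hπ t).1 h0
    clear h0 hxK hxJ hxJ'
    induction u with
    | zero => simp
    | tmul a m => simpa using Submodule.smul_mem_smul a.2 (show (m : MvPolynomial ι S) ∈ K.restrictScalars R from m.2)
    | add a b ha hb => simp only [map_add]; exact add_mem ha hb
  have hfin : K ≤ K₀ := by
    have step : ∀ n : ℕ, K.restrictScalars R ≤ K₀.restrictScalars R ⊔ J ^ n • K.restrictScalars R := by
      have h1 : K.restrictScalars R ≤ K₀.restrictScalars R ⊔ J • K.restrictScalars R := fun x hx => by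
        obtain ⟨y, hy, hxy⟩ := hsup x hx
        rw [← add_sub_cancel y x]
        exact Submodule.add_mem_sup hy (hpure _ (K.sub_mem hx (hK₀ hy)) hxy)
      intro n
      induction n with
      | zero => simp
      | succ n ih =>
        refine ih.trans (sup_le le_sup_left ?_)
        refine (Submodule.smul_mono le_rfl h1).trans ?_
        rw [Submodule.smul_sup, ← Submodule.smul_assoc, smul_eq_mul, ← pow_succ]
        exact sup_le_sup_right Submodule.smul_le_right _
    obtain ⟨n, hn⟩ := hJ
    have := step n
    rw [hn, Ideal.zero_eq_bot, Submodule.bot_smul, sup_bot_eq] at this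
    exact this
  refine Algebra.FinitePresentation.of_surjective hπ ?_
  rw [show RingHom.ker π.toRingHom = K₀ from le_antisymm hfin hK₀]
  exact Submodule.fg_span (Set.finite_range gen)

end Pushout

end ThickFlatLib
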